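import Groth.Agent.Lib.StableBlowUp3.Basic
import Groth.Agent.Lib.EffCartier.Dense
import Mathlib.AlgebraicGeometry.Morphisms.Finite

/-! # A finite morphism which is an isomorphism off a Cartier divisor is a blow-up -/

set_option autoImplicit false
set_option linter.style.haveILetI false
set_option backward.isDefEq.respectTransparency.types false
universe u

open CategoryTheory CategoryTheory.Limits AlgebraicGeometry TopologicalSpace Groth.Agent.EffCartier

namespace Groth.Agent.StableBlowUp3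

variable {X Y : Scheme.{u}} (f : X ⟶ Y)

theorem bijective_app_of_le {U W : Y.Opens} [IsIso (f ∣_ U)] (hW : W ≤ U) : Function.Bijective (f.app W) := by
  have e : U.ι ''ᵁ (U.ι ⁻¹ᵁ W) = W := by
    rw [Scheme.Hom.image_preimage_eq_opensRange_inf, Scheme.Opens.opensRange_ι, inf_eq_right.2 hW]
  suffices ∀ W' : Y.Opens, U.ι ''ᵁ (U.ι ⁻¹ᵁ W) = W' → IsIso (f.app W') by
    haveI := this W e
    exact ConcreteCategory.bijective_of_isIso _
  rintro W' rfl
  have h : IsIso ((f ∣_ U).app (U.ι ⁻¹ᵁ W)) := inferInstance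
  rw [morphismRestrict_app] at h
  haveI hg : ∀ {a b : X.Opens} (hab : a = b), IsIso (X.presheaf.map (eqToHom hab).op) := fun {a b} hab => by
    subst hab
    rw [eqToHom_refl, op_id, CategoryTheory.Functor.map_id]
    infer_instance
  exact @IsIso.of_isIso_comp_right _ _ _ _ _ _ _ (hg _) h

variable {L : Y.IdealSheafData} [IsAffineHom f]

theorem app_injective_of_iso (hL : BlowUp.IsEffCartierIdeal L) [IsIso (f ∣_ cmpl L)] (U : Y.Opens) :
    Function.Injective (f.app U) := by
  have := quasiCompact_interior hL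
  have := dominant_cmpl hL
  rw [injective_iff_map_eq_zero]
  intro r hr
  apply (cmpl L).ι.app_injective U
  rw [map_zero]
  have h0 : Y.presheaf.map (homOfLE (inf_le_left : U ⊓ cmpl L ≤ U)).op r = 0 := by
    apply (bijective_app_of_le f (inf_le_right : U ⊓ cmpl L ≤ cmpl L)).1
    rw [map_zero, ← ConcreteCategory.comp_apply, f.naturality, ConcreteCategory.comp_apply, hr, map_zero]
  rw [Scheme.Opens.ι_app]
  have hle : (cmpl L).ι ''ᵁ ((cmpl L).ι ⁻¹ᵁ U) ≤ U ⊓ cmpl L := by
    rw [Scheme.Hom.image_preimage_eq_opensRange_inf, Scheme.Opens.opensRange_ι, inf_comm]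
  rw [Subsingleton.elim (homOfLE _) (homOfLE hle ≫ homOfLE inf_le_left), op_comp, Functor.map_comp]
  show Y.presheaf.map (homOfLE hle).op (Y.presheaf.map (homOfLE (inf_le_left : U ⊓ cmpl L ≤ U)).op r) = 0
  rw [h0, map_zero]

variable [IsReduced X]

theorem isEffCartierIdeal_comap_of_dense (hL : BlowUp.IsEffCartierIdeal L)
    (hdense : Dense (f ⁻¹' (cmpl L : Set Y))) : BlowUp.IsEffCartierIdeal (L.comap f) := by
  haveI : IsDominant (f ⁻¹ᵁ cmpl L).ι := ⟨by
    show Dense (Set.range _)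
    rw [Scheme.Opens.range_ι]
    exact hdense⟩
  haveI := IsSchemeTheoreticallyDominant.of_isDominant (f ⁻¹ᵁ cmpl L).ι
  exact comap_of_dominant hL f

variable [IsFinite f]

theorem exists_pow_le_range (hL : BlowUp.IsEffCartierIdeal L) [IsIso (f ∣_ cmpl L)]
    (hE : BlowUp.IsEffCartierIdeal (L.comap f)) {U : Y.affineOpens} {l : Γ(Y, U.1)} (hl : IsEqn L U l) :
    ∃ N : ℕ, ∀ a : Γ(X, f ⁻¹ᵁ U.1), (f.app U.1 l) ^ N * a ∈ Set.range (f.app U.1) := by
  let φ := (f.app U.1).hom
  have hnzd : φ l ∈ nonZeroDivisors Γ(X, f ⁻¹ᵁ U.1) := by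
    refine mem_nonZeroDivisors_of_ideal_eq hE ⟨f ⁻¹ᵁ U.1, U.2.preimage f⟩ _ ?_
    rw [comap_ideal L f U ⟨f ⁻¹ᵁ U.1, U.2.preimage f⟩ le_rfl, hl.ideal_eq, Ideal.map_span, Set.image_singleton,
      ← Scheme.Hom.app_eq_appLE]
  have hone : ∀ a, ∃ N : ℕ, φ l ^ N * a ∈ φ.range := by
    intro a
    let W := Y.basicOpen l
    have hW : W ≤ cmpl L := by
      show Y.basicOpen l ≤ cmpl L
      rw [basicOpen_eq hl]; exact inf_le_left
    obtain ⟨r', hr'⟩ := (bijective_app_of_le f hW).2
      (X.presheaf.map (homOfLE (f.preimage_mono (Y.basicOpen_le l))).op a)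
    letI : Algebra Γ(Y, U.1) Γ(Y, W) := (Y.presheaf.map (homOfLE (Y.basicOpen_le l)).op).hom.toAlgebra
    haveI : IsLocalization.Away l Γ(Y, W) := U.2.isLocalization_basicOpen l
    obtain ⟨⟨r, ⟨_, k, rfl⟩⟩, hrk⟩ := IsLocalization.surj (Submonoid.powers l) r'
    refine ⟨k, ?_⟩
    have hres : ∀ z, X.presheaf.map (homOfLE (f.preimage_mono (Y.basicOpen_le l))).op (φ z) =
        f.app W (algebraMap Γ(Y, U.1) Γ(Y, W) z) := fun z =>
      (ConcreteCategory.congr_hom (f.naturality (homOfLE (Y.basicOpen_le l)).op) z).symm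
    have h0 : X.presheaf.map (homOfLE (f.preimage_mono (Y.basicOpen_le l))).op (φ l ^ k * a - φ r) = 0 := by
      rw [← map_pow φ, map_sub, map_mul, hres, hres, ← hr', ← map_mul, mul_comm, hrk, sub_self]
    have hinj : Function.Injective (X.presheaf.map (homOfLE (f.preimage_mono (Y.basicOpen_le l))).op).hom := by
      letI : Algebra Γ(X, f ⁻¹ᵁ U.1) Γ(X, X.basicOpen (φ l)) :=
        (X.presheaf.map (homOfLE (X.basicOpen_le (φ l))).op).hom.toAlgebra
      haveI : IsLocalization.Away (φ l) Γ(X, X.basicOpen (φ l)) := (U.2.preimage f).isLocalization_basicOpen _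
      have h1 := IsLocalization.injective Γ(X, X.basicOpen (φ l)) (M := Submonoid.powers (φ l))
        (Submonoid.powers_le.mpr hnzd)
      intro x y hxy
      refine h1 ?_
      have hle : X.basicOpen (φ l) ≤ f ⁻¹ᵁ W := (f.preimage_basicOpen l).ge
      have := congrArg (X.presheaf.map (homOfLE hle).op) hxy
      rw [← ConcreteCategory.comp_apply, ← ConcreteCategory.comp_apply, ← Functor.map_comp] at this
      exact this
    exact ⟨r, (sub_eq_zero.1 (hinj (h0.trans (map_zero _).symm))).symm⟩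
  letI := φ.toAlgebra
  haveI : Module.Finite Γ(Y, U.1) Γ(X, f ⁻¹ᵁ U.1) := f.finite_app U.1 U.2
  obtain ⟨s, hs⟩ := Module.Finite.fg_top (R := Γ(Y, U.1)) (M := Γ(X, f ⁻¹ᵁ U.1))
  choose N hN using hone
  refine ⟨s.sup N, fun a => ?_⟩
  have ha : a ∈ Submodule.span Γ(Y, U.1) (s : Set Γ(X, f ⁻¹ᵁ U.1)) := hs ▸ Submodule.mem_top
  show φ l ^ s.sup N * a ∈ φ.range
  refine Submodule.span_induction (fun z hz => ?_) (by simp) (fun z w _ _ hz hw => ?_) (fun c z _ hz => ?_) ha
  · obtain ⟨d, hd⟩ := Nat.exists_eq_add_of_le (Finset.le_sup (f := N) hz)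
    rw [hd, pow_add, mul_comm (φ l ^ N z), mul_assoc, ← map_pow φ l d]
    exact φ.range.mul_mem ⟨_, rfl⟩ (hN z)
  · rw [mul_add]; exact φ.range.add_mem hz hw
  · rw [Algebra.smul_def, ← mul_assoc, mul_comm (φ l ^ _), mul_assoc]
    exact φ.range.mul_mem ⟨c, rfl⟩ hz

/-- A finite morphism of reduced schemes, isomorphism off a Cartier divisor with dense preimage, is a blow-up
in an ideal with the same support. -/
theorem exists_isBlowUp [CompactSpace Y] (hL : BlowUp.IsEffCartierIdeal L) [IsIso (f ∣_ cmpl L)]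
    (hdense : Dense (f ⁻¹' (cmpl L : Set Y))) :
    ∃ I : Y.IdealSheafData, I.support = L.support ∧ BlowUp.IsBlowUp f I := by
  classical
  have hE := isEffCartierIdeal_comap_of_dense f hL hdense
  choose U hxU l hl using fun y : Y => isEffCartierIdeal_iff.mp hL y
  choose N hN using fun y => exists_pow_le_range f hL hE (hl y)
  obtain ⟨t, ht⟩ := isCompact_univ.elim_finite_subcover (fun y => ((U y).1 : Set Y)) (fun y => (U y).1.isOpen)
    (fun y _ => Set.mem_iUnion.2 ⟨y, hxU y⟩)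
  let m := t.sup N + 1
  let J := (L.comap f) ^ m
  have hJ : BlowUp.IsEffCartierIdeal J := by
    refine isEffCartierIdeal_iff.mpr fun x => ?_
    obtain ⟨V, hxV, e, he⟩ := isEffCartierIdeal_iff.mp hE x
    exact ⟨V, hxV, e ^ m, pow_mem he.mem m, by
      rw [Scheme.IdealSheafData.ideal_pow, Pi.pow_apply, he.ideal_eq, Ideal.span_singleton_pow]⟩
  have hJU : ∀ y, J.ideal ⟨f ⁻¹ᵁ (U y).1, (U y).2.preimage f⟩ = Ideal.span {f.app (U y).1 (l y) ^ m} := fun y => by
    rw [Scheme.IdealSheafData.ideal_pow, Pi.pow_apply, comap_ideal L f (U y) ⟨_, (U y).2.preimage f⟩ le_rfl,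
      (hl y).ideal_eq, Ideal.map_span, Set.image_singleton, Ideal.span_singleton_pow, ← Scheme.Hom.app_eq_appLE]
  have hrange : ∀ y ∈ t, ∀ b ∈ J.ideal ⟨f ⁻¹ᵁ (U y).1, (U y).2.preimage f⟩,
      ∃ r ∈ (J.map f).ideal (U y), f.app (U y).1 r = b := by
    intro y hy b hb
    obtain ⟨a, rfl⟩ := Ideal.mem_span_singleton'.1 (hJU y ▸ hb)
    have hle : N y ≤ m := (Finset.le_sup hy).trans (Nat.le_succ _)
    obtain ⟨d, hd⟩ := Nat.exists_eq_add_of_le hle
    obtain ⟨r, hr⟩ := hN y (f.app (U y).1 (l y) ^ d * a)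
    have hr' : f.app (U y).1 r = a * f.app (U y).1 (l y) ^ m := by rw [hr, hd, pow_add]; ring
    refine ⟨r, ?_, hr'⟩
    rw [Scheme.IdealSheafData.ideal_map_of_isAffineHom, Ideal.mem_comap, hr']
    exact hb
  have hcover : ∀ x : Y, ∃ y ∈ t, x ∈ (U y).1 := fun x => by
    obtain ⟨y, hy, hxy⟩ := Set.mem_iUnion₂.1 (ht (Set.mem_univ x))
    exact ⟨y, hy, hxy⟩
  have hcomap : (J.map f).comap f = J := by
    refine Scheme.IdealSheafData.ext_of_iSup_eq_top
      (fun y : t => ⟨f ⁻¹ᵁ (U y.1).1, (U y.1).2.preimage f⟩)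
      (eq_top_iff.2 fun x _ => Opens.mem_iSup.2 (by
        obtain ⟨y, hy, hxy⟩ := hcover (f x); exact ⟨⟨y, hy⟩, hxy⟩)) fun y => ?_
    rw [comap_ideal (J.map f) f (U y.1) ⟨_, (U y.1).2.preimage f⟩ le_rfl, ← Scheme.Hom.app_eq_appLE]
    refine le_antisymm (Ideal.map_le_iff_le_comap.2 ?_) fun b hb => ?_
    · rw [Scheme.IdealSheafData.ideal_map_of_isAffineHom]
    · obtain ⟨r, hr, rfl⟩ := hrange y.1 y.2 b hb
      exact Ideal.mem_map_of_mem _ hr
  have hcharts : Charts f (J.map f) := fun x => by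
    obtain ⟨y, hy, hxy⟩ := hcover x
    refine ⟨U y, hxy, (U y).2.preimage f, ⟨fun r s _ _ h => app_injective_of_iso f hL _ h, fun a r hr => ?_⟩⟩
    refine hrange y hy _ (Ideal.mul_mem_left _ a ?_)
    rwa [Scheme.IdealSheafData.ideal_map_of_isAffineHom, Ideal.mem_comap] at hr
  refine ⟨J.map f, ?_, isBlowUp hcharts (show BlowUp.IsEffCartierIdeal ((J.map f).comap f) by rw [hcomap]; exact hJ)⟩
  haveI : IsSchemeTheoreticallyDominant f := by
    rw [isSchemeTheoreticallyDominant_iff]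
    refine Scheme.IdealSheafData.ext (funext fun W => ?_)
    rw [Scheme.Hom.ker_apply, Scheme.IdealSheafData.ideal_bot, Pi.bot_apply, ← RingHom.injective_iff_ker_eq_bot]
    exact app_injective_of_iso f hL W.1
  have hsurj : Function.Surjective f := fun y => by
    have h := (f.denseRange).closure_eq
    rw [f.isClosedMap.isClosed_range.closure_eq] at h
    have : y ∈ Set.range f := by rw [h]; exact Set.mem_univ y
    exact this
  rw [Scheme.IdealSheafData.support_map, Scheme.IdealSheafData.support_pow _ _ (Nat.succ_ne_zero _),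
    Scheme.IdealSheafData.support_comap]
  refine SetLike.coe_injective ?_
  rw [TopologicalSpace.Closeds.coe_closure, TopologicalSpace.Closeds.coe_preimage,
    Set.image_preimage_eq _ hsurj, L.support.isClosed.closure_eq]

end Groth.Agent.StableBlowUp3
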