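import Groth.Prelude.Def_BlowUp2
import Groth.Agent.Lib.EffCartier.Comap
import Groth.Agent.Lib.EffCartier.Mul
import Groth.Agent.Lib.BlowUp26.Basic

/-! # Blow-ups by affine morphisms: ideals stable under the upper ring -/

set_option autoImplicit false
set_option linter.style.haveILetI false
set_option backward.isDefEq.respectTransparency.types false
universe u

open CategoryTheory CategoryTheory.Limits AlgebraicGeometry TopologicalSpace

namespace Groth.Agent.StableBlowUp3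

section Algebra

variable {R At T : Type u} [CommRing R] [CommRing At] [CommRing T]

/-- `I` is carried injectively onto an ideal of the upper ring -/
structure Stable (φ : R →+* At) (I : Ideal R) : Prop where
  inj : ∀ r s, r ∈ I → s ∈ I → φ r = φ s → r = s
  mul : ∀ a, ∀ r ∈ I, ∃ s ∈ I, φ s = a * φ r

/-- extension of a map under which the conductor generates an invertible ideal -/
theorem existsUnique_extension {I : Ideal R} {φ : R →+* At} (F : Stable φ I) (γ : R →+* T) (f : T)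
    (hf : f ∈ nonZeroDivisors T) (hI : I.map γ = Ideal.span {f}) : ∃! ψ : At →+* T, ψ.comp φ = γ := by
  have cancelI : ∀ x y : T, (∀ r ∈ I, γ r * x = γ r * y) → x = y := fun x y h => by
    have hle : I.map γ ≤ LinearMap.ker (LinearMap.mulRight T (x - y)) :=
      Ideal.map_le_iff_le_comap.2 fun r hr => by
        show γ r * (x - y) = 0
        rw [mul_sub, h r hr, sub_self]
    rw [hI] at hle
    have : f * (x - y) = 0 := hle (Ideal.subset_span rfl)
    exact sub_eq_zero.1 ((mul_cancel_left_mem_nonZeroDivisors hf).1 (this.trans (mul_zero f).symm))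
  choose m hm hφm using fun (a : At) (r : I) => F.mul a r.1 r.2
  have sym : ∀ a (r s : I), (r : R) * m a s = (s : R) * m a r := fun a r s =>
    F.inj _ _ (Ideal.mul_mem_left _ _ (hm a s)) (Ideal.mul_mem_left _ _ (hm a r)) (by
      rw [map_mul, map_mul, hφm, hφm]; ring)
  have hex : ∀ a : At, ∃ t : T, ∀ r : I, γ r * t = γ (m a r) := by
    intro a
    suffices ∀ x ∈ I.map γ, ∃ y ∈ Ideal.span {f}, ∀ r : I, γ r * y = x * γ (m a r) by
      obtain ⟨y, hy, h⟩ := this f (hI ▸ Ideal.subset_span rfl)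
      obtain ⟨t, rfl⟩ := Ideal.mem_span_singleton'.1 hy
      exact ⟨t, fun r => (mul_cancel_left_mem_nonZeroDivisors hf).1 (by rw [← h r]; ring)⟩
    intro x hx
    refine Submodule.span_induction (fun z hz => ?_) ⟨0, zero_mem _, fun r => by simp⟩
      (fun z w _ _ hz hw => ?_) (fun c z _ hz => ?_) hx
    · obtain ⟨s, hs, rfl⟩ := hz
      refine ⟨γ (m a ⟨s, hs⟩), hI ▸ Ideal.mem_map_of_mem _ (hm a _), fun r => ?_⟩
      rw [← map_mul, ← map_mul, sym a r ⟨s, hs⟩]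
    · obtain ⟨y, hy, h⟩ := hz
      obtain ⟨y', hy', h'⟩ := hw
      exact ⟨y + y', add_mem hy hy', fun r => by rw [mul_add, h r, h' r, add_mul]⟩
    · obtain ⟨y, hy, h⟩ := hz
      refine ⟨c * y, Ideal.mul_mem_left _ _ hy, fun r => ?_⟩
      rw [smul_eq_mul, mul_left_comm, h r, mul_assoc]
  choose t ht using hex
  have key : ∀ (a : At) (r : I) (s : R) (_ : s ∈ I), φ s = a * φ r → γ r * t a = γ s :=
    fun a r s hs e => by rw [ht a r, F.inj _ _ (hm a r) hs ((hφm a r).trans e.symm)]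
  have h1 : t 1 = 1 := cancelI _ _ fun r hr => by
    rw [mul_one, key 1 ⟨r, hr⟩ r hr (one_mul _).symm]
  have hmul : ∀ a b, t (a * b) = t a * t b := fun a b => cancelI _ _ fun r hr => by
    rw [mul_comm (t a), ← mul_assoc, ht b ⟨r, hr⟩, ht a ⟨_, hm b ⟨r, hr⟩⟩]
    exact key (a * b) ⟨r, hr⟩ _ (hm _ _) (by rw [hφm, hφm]; ring)
  have hadd : ∀ a b, t (a + b) = t a + t b := fun a b => cancelI _ _ fun r hr => by
    rw [mul_add, ht a ⟨r, hr⟩, ht b ⟨r, hr⟩, ← map_add]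
    exact key (a + b) ⟨r, hr⟩ _ (add_mem (hm _ _) (hm _ _)) (by rw [map_add, hφm, hφm]; ring)
  let ψ : At →+* T := RingHom.mk' ⟨⟨t, h1⟩, hmul⟩ hadd
  refine ⟨ψ, RingHom.ext fun r0 => cancelI _ _ fun r hr => ?_, fun ψ' hψ' => RingHom.ext fun a => cancelI _ _ fun r hr => ?_⟩
  · show γ r * t (φ r0) = γ r * γ r0
    rw [← map_mul]
    exact key _ ⟨r, hr⟩ _ (Ideal.mul_mem_right _ _ hr) (by rw [map_mul, mul_comm])
  · show γ r * ψ' a = γ r * t a
    rw [ht a ⟨r, hr⟩, ← hψ', RingHom.comp_apply, RingHom.comp_apply, ← map_mul, hφm, mul_comm]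

end Algebra

section lift

variable {Xt X : Scheme.{u}} {b : Xt ⟶ X} {I : X.IdealSheafData}

/-- the local condition -/
def Charts (b : Xt ⟶ X) (I : X.IdealSheafData) : Prop :=
  ∀ x : X, ∃ O : X.affineOpens, x ∈ O.1 ∧ IsAffineOpen (b ⁻¹ᵁ O.1) ∧ Stable (b.app O.1).hom (I.ideal O)

variable (H : Charts b I)
include H

theorem exists_chart_eqn {Y : Scheme.{u}} (g : Y ⟶ X) (hg : BlowUp.IsEffCartierIdeal (I.comap g)) (y : Y) :
    ∃ (O : X.affineOpens) (_ : IsAffineOpen (b ⁻¹ᵁ O.1)) (_ : Stable (b.app O.1).hom (I.ideal O))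
      (V : Y.affineOpens) (le : V.1 ≤ g ⁻¹ᵁ O.1), y ∈ V.1 ∧
      ∃ f ∈ nonZeroDivisors Γ(Y, V.1),
        (I.ideal O).map (g.appLE O.1 V.1 le).hom = Ideal.span {f} := by
  obtain ⟨O, hyO, hA, hS⟩ := H (g y)
  obtain ⟨V, hyV, hle, f, hf⟩ := EffCartier.exists_isEqn hg (x := y) (W := g ⁻¹ᵁ O.1) hyO
  refine ⟨O, hA, hS, V, hle, hyV, f, hf.mem, ?_⟩
  rw [← hf.ideal_eq, EffCartier.comap_ideal I g O V hle]

theorem hom_ext_lift {Y : Scheme.{u}} (g : Y ⟶ X) (hg : BlowUp.IsEffCartierIdeal (I.comap g))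
    {k k' : Y ⟶ Xt} (hk : k ≫ b = g) (hk' : k' ≫ b = g) : k = k' := by
  choose O hA hS V le hy f hf hI using exists_chart_eqn H g hg
  refine Scheme.Cover.hom_ext (Y.openCoverOfIsOpenCover (fun y => (V y).1)
    (IsOpenCover.mk (eq_top_iff.mpr fun y _ => Opens.mem_iSup.mpr ⟨y, hy y⟩))) _ _ fun y => ?_
  show (V y).1.ι ≫ k = (V y).1.ι ≫ k'
  have hle : ∀ l : Y ⟶ Xt, l ≫ b = g → (V y).1 ≤ l ⁻¹ᵁ (b ⁻¹ᵁ (O y).1) := fun l hl => by
    rw [← Scheme.Hom.comp_preimage, hl]; exact le y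
  have key := existsUnique_extension (hS y) (g.appLE (O y).1 (V y).1 (le y)).hom (f y) (hf y) (hI y)
  have hc : ∀ (l : Y ⟶ Xt) (hl : l ≫ b = g), (l.appLE (b ⁻¹ᵁ (O y).1) (V y).1 (hle l hl)).hom.comp (b.app (O y).1).hom =
      (g.appLE (O y).1 (V y).1 (le y)).hom := by
    rintro l rfl
    rw [← CommRingCat.hom_comp, Scheme.Hom.app_eq_appLE, Scheme.Hom.appLE_comp_appLE]
  have heq : k.appLE _ _ (hle k hk) = k'.appLE _ _ (hle k' hk') :=
    CommRingCat.hom_ext (key.unique (hc k hk) (hc k' hk'))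
  rw [← (V y).2.isoSpec_hom_fromSpec, Category.assoc, Category.assoc,
    ← IsAffineOpen.SpecMap_appLE_fromSpec k (hA y) (V y).2 (hle k hk),
    ← IsAffineOpen.SpecMap_appLE_fromSpec k' (hA y) (V y).2 (hle k' hk'), heq]

theorem existsUnique_lift {Y : Scheme.{u}} (g : Y ⟶ X) (hg : BlowUp.IsEffCartierIdeal (I.comap g)) :
    ∃! k : Y ⟶ Xt, k ≫ b = g := by
  choose O hA hS V le hy f hf hI using exists_chart_eqn H g hg
  choose ψ hψ using fun y =>
    (existsUnique_extension (hS y) (g.appLE (O y).1 (V y).1 (le y)).hom (f y) (hf y) (hI y)).exists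
  let 𝒰 := Y.openCoverOfIsOpenCover (fun y => (V y).1)
    (IsOpenCover.mk (eq_top_iff.mpr fun y _ => Opens.mem_iSup.mpr ⟨y, hy y⟩))
  let k : ∀ y, 𝒰.X y ⟶ Xt := fun y =>
    (V y).2.isoSpec.hom ≫ Spec.map (CommRingCat.ofHom (ψ y)) ≫ (hA y).fromSpec
  have hk : ∀ y, k y ≫ b = 𝒰.f y ≫ g := fun y => by
    show ((V y).2.isoSpec.hom ≫ Spec.map (CommRingCat.ofHom (ψ y)) ≫ (hA y).fromSpec) ≫ b = (V y).1.ι ≫ g
    have e : b.app (O y).1 ≫ CommRingCat.ofHom (ψ y) = g.appLE (O y).1 (V y).1 (le y) := CommRingCat.hom_ext (hψ y)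
    rw [Category.assoc, Category.assoc, ← IsAffineOpen.SpecMap_appLE_fromSpec b (O y).2 (hA y) le_rfl,
      ← Scheme.Hom.app_eq_appLE, ← Category.assoc (Spec.map _), ← Spec.map_comp, e,
      IsAffineOpen.SpecMap_appLE_fromSpec g (O y).2 (V y).2 (le y), ← Category.assoc,
      IsAffineOpen.isoSpec_hom_fromSpec]
  have hcompat : ∀ x y, pullback.fst (𝒰.f x) (𝒰.f y) ≫ k x = pullback.snd (𝒰.f x) (𝒰.f y) ≫ k y := fun x y => by
    refine hom_ext_lift H ((pullback.fst (𝒰.f x) (𝒰.f y) ≫ 𝒰.f x) ≫ g) ?_ (by rw [Category.assoc, hk, Category.assoc]) ?_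
    · rw [Scheme.IdealSheafData.comap_comp]
      exact BlowUp26.isEffCartierIdeal_comap_flat hg _
    · rw [Category.assoc, hk, ← Category.assoc, pullback.condition]
  refine ⟨𝒰.glueMorphisms k hcompat, 𝒰.hom_ext _ _ fun y => ?_, fun k' hk' => hom_ext_lift H g hg hk' ?_⟩
  · rw [← Category.assoc, Scheme.Cover.ι_glueMorphisms]; exact hk y
  · refine 𝒰.hom_ext _ _ fun y => ?_
    rw [← Category.assoc, Scheme.Cover.ι_glueMorphisms]; exact hk y

theorem isBlowUp (hI : BlowUp.IsEffCartierIdeal (I.comap b)) : BlowUp.IsBlowUp b I :=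
  ⟨hI, fun _ g hg => existsUnique_lift H g hg⟩

end lift

end Groth.Agent.StableBlowUp3
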